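import Cfsg.Agent.H15.Fis2
import Cfsg.Agent.H15.F24a
import Cfsg.Agent.H15.X24.T0
import Cfsg.Agent.H15.X24.T1
import Cfsg.Agent.H15.X24.T2
set_option autoImplicit false
set_option maxRecDepth 100000

namespace Cfsg.Agent.H15.X24
open Cfsg.Agent.H15 Cfsg.Agent.H14

noncomputable def xt1_0 (i : ℕ) : ℕ := (Bool.rec (Bool.rec (Bool.rec (xt0_0 i) (xt0_8 i) (Nat.ble (nat_lit 8) i)) (Bool.rec (xt0_16 i) (xt0_24 i) (Nat.ble (nat_lit 24) i)) (Nat.ble (nat_lit 16) i)) (Bool.rec (Bool.rec (xt0_32 i) (xt0_40 i) (Nat.ble (nat_lit 40) i)) (Bool.rec (xt0_48 i) (xt0_56 i) (Nat.ble (nat_lit 56) i)) (Nat.ble (nat_lit 48) i)) (Nat.ble (nat_lit 32) i))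
noncomputable def xt1_8 (i : ℕ) : ℕ := (Bool.rec (Bool.rec (Bool.rec (xt0_64 i) (xt0_72 i) (Nat.ble (nat_lit 72) i)) (Bool.rec (xt0_80 i) (xt0_88 i) (Nat.ble (nat_lit 88) i)) (Nat.ble (nat_lit 80) i)) (Bool.rec (Bool.rec (xt0_96 i) (xt0_104 i) (Nat.ble (nat_lit 104) i)) (Bool.rec (xt0_112 i) (xt0_120 i) (Nat.ble (nat_lit 120) i)) (Nat.ble (nat_lit 112) i)) (Nat.ble (nat_lit 96) i))
noncomputable def xt1_16 (i : ℕ) : ℕ := (Bool.rec (Bool.rec (Bool.rec (xt0_128 i) (xt0_136 i) (Nat.ble (nat_lit 136) i)) (Bool.rec (xt0_144 i) (xt0_152 i) (Nat.ble (nat_lit 152) i)) (Nat.ble (nat_lit 144) i)) (Bool.rec (Bool.rec (xt0_160 i) (xt0_168 i) (Nat.ble (nat_lit 168) i)) (Bool.rec (xt0_176 i) (xt0_184 i) (Nat.ble (nat_lit 184) i)) (Nat.ble (nat_lit 176) i)) (Nat.ble (nat_lit 160) i))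
noncomputable def xt1_24 (i : ℕ) : ℕ := (Bool.rec (Bool.rec (Bool.rec (xt0_192 i) (xt0_200 i) (Nat.ble (nat_lit 200) i)) (Bool.rec (xt0_208 i) (xt0_216 i) (Nat.ble (nat_lit 216) i)) (Nat.ble (nat_lit 208) i)) (Bool.rec (Bool.rec (xt0_224 i) (xt0_232 i) (Nat.ble (nat_lit 232) i)) (Bool.rec (xt0_240 i) (xt0_248 i) (Nat.ble (nat_lit 248) i)) (Nat.ble (nat_lit 240) i)) (Nat.ble (nat_lit 224) i))
noncomputable def xt1_32 (i : ℕ) : ℕ := (Bool.rec (Bool.rec (Bool.rec (xt0_256 i) (xt0_264 i) (Nat.ble (nat_lit 264) i)) (Bool.rec (xt0_272 i) (xt0_280 i) (Nat.ble (nat_lit 280) i)) (Nat.ble (nat_lit 272) i)) (Bool.rec (Bool.rec (xt0_288 i) (xt0_296 i) (Nat.ble (nat_lit 296) i)) (Bool.rec (xt0_304 i) (xt0_312 i) (Nat.ble (nat_lit 312) i)) (Nat.ble (nat_lit 304) i)) (Nat.ble (nat_lit 288) i))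
noncomputable def xt1_40 (i : ℕ) : ℕ := (Bool.rec (Bool.rec (Bool.rec (xt0_320 i) (xt0_328 i) (Nat.ble (nat_lit 328) i)) (Bool.rec (xt0_336 i) (xt0_344 i) (Nat.ble (nat_lit 344) i)) (Nat.ble (nat_lit 336) i)) (Bool.rec (Bool.rec (xt0_352 i) (xt0_360 i) (Nat.ble (nat_lit 360) i)) (Bool.rec (xt0_368 i) (xt0_376 i) (Nat.ble (nat_lit 376) i)) (Nat.ble (nat_lit 368) i)) (Nat.ble (nat_lit 352) i))
noncomputable def xt1_48 (i : ℕ) : ℕ := (Bool.rec (Bool.rec (Bool.rec (xt0_384 i) (xt0_392 i) (Nat.ble (nat_lit 392) i)) (Bool.rec (xt0_400 i) (xt0_408 i) (Nat.ble (nat_lit 408) i)) (Nat.ble (nat_lit 400) i)) (Bool.rec (Bool.rec (xt0_416 i) (xt0_424 i) (Nat.ble (nat_lit 424) i)) (Bool.rec (xt0_432 i) (xt0_440 i) (Nat.ble (nat_lit 440) i)) (Nat.ble (nat_lit 432) i)) (Nat.ble (nat_lit 416) i))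
noncomputable def xt1_56 (i : ℕ) : ℕ := (Bool.rec (Bool.rec (Bool.rec (xt0_448 i) (xt0_456 i) (Nat.ble (nat_lit 456) i)) (Bool.rec (xt0_464 i) (xt0_472 i) (Nat.ble (nat_lit 472) i)) (Nat.ble (nat_lit 464) i)) (Bool.rec (Bool.rec (xt0_480 i) (xt0_488 i) (Nat.ble (nat_lit 488) i)) (Bool.rec (xt0_496 i) (xt0_504 i) (Nat.ble (nat_lit 504) i)) (Nat.ble (nat_lit 496) i)) (Nat.ble (nat_lit 480) i))
noncomputable def xt1_64 (i : ℕ) : ℕ := (Bool.rec (Bool.rec (Bool.rec (xt0_512 i) (xt0_520 i) (Nat.ble (nat_lit 520) i)) (Bool.rec (xt0_528 i) (xt0_536 i) (Nat.ble (nat_lit 536) i)) (Nat.ble (nat_lit 528) i)) (Bool.rec (Bool.rec (xt0_544 i) (xt0_552 i) (Nat.ble (nat_lit 552) i)) (Bool.rec (xt0_560 i) (xt0_568 i) (Nat.ble (nat_lit 568) i)) (Nat.ble (nat_lit 560) i)) (Nat.ble (nat_lit 544) i))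
noncomputable def xt1_72 (i : ℕ) : ℕ := (Bool.rec (Bool.rec (Bool.rec (xt0_576 i) (xt0_584 i) (Nat.ble (nat_lit 584) i)) (Bool.rec (xt0_592 i) (xt0_600 i) (Nat.ble (nat_lit 600) i)) (Nat.ble (nat_lit 592) i)) (Bool.rec (Bool.rec (xt0_608 i) (xt0_616 i) (Nat.ble (nat_lit 616) i)) (Bool.rec (xt0_624 i) (xt0_632 i) (Nat.ble (nat_lit 632) i)) (Nat.ble (nat_lit 624) i)) (Nat.ble (nat_lit 608) i))
noncomputable def xt1_80 (i : ℕ) : ℕ := (Bool.rec (Bool.rec (Bool.rec (xt0_640 i) (xt0_648 i) (Nat.ble (nat_lit 648) i)) (Bool.rec (xt0_656 i) (xt0_664 i) (Nat.ble (nat_lit 664) i)) (Nat.ble (nat_lit 656) i)) (Bool.rec (Bool.rec (xt0_672 i) (xt0_680 i) (Nat.ble (nat_lit 680) i)) (Bool.rec (xt0_688 i) (xt0_696 i) (Nat.ble (nat_lit 696) i)) (Nat.ble (nat_lit 688) i)) (Nat.ble (nat_lit 672) i))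
noncomputable def xt1_88 (i : ℕ) : ℕ := (Bool.rec (Bool.rec (Bool.rec (xt0_704 i) (xt0_712 i) (Nat.ble (nat_lit 712) i)) (Bool.rec (xt0_720 i) (xt0_728 i) (Nat.ble (nat_lit 728) i)) (Nat.ble (nat_lit 720) i)) (Bool.rec (Bool.rec (xt0_736 i) (xt0_744 i) (Nat.ble (nat_lit 744) i)) (Bool.rec (xt0_752 i) (xt0_760 i) (Nat.ble (nat_lit 760) i)) (Nat.ble (nat_lit 752) i)) (Nat.ble (nat_lit 736) i))
noncomputable def xt1_96 (i : ℕ) : ℕ := (Bool.rec (Bool.rec (Bool.rec (xt0_768 i) (xt0_776 i) (Nat.ble (nat_lit 776) i)) (Bool.rec (xt0_784 i) (xt0_792 i) (Nat.ble (nat_lit 792) i)) (Nat.ble (nat_lit 784) i)) (Bool.rec (Bool.rec (xt0_800 i) (xt0_808 i) (Nat.ble (nat_lit 808) i)) (Bool.rec (xt0_816 i) (xt0_824 i) (Nat.ble (nat_lit 824) i)) (Nat.ble (nat_lit 816) i)) (Nat.ble (nat_lit 800) i))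
noncomputable def xt1_104 (i : ℕ) : ℕ := (Bool.rec (Bool.rec (Bool.rec (xt0_832 i) (xt0_840 i) (Nat.ble (nat_lit 840) i)) (Bool.rec (xt0_848 i) (xt0_856 i) (Nat.ble (nat_lit 856) i)) (Nat.ble (nat_lit 848) i)) (Bool.rec (Bool.rec (xt0_864 i) (xt0_872 i) (Nat.ble (nat_lit 872) i)) (Bool.rec (xt0_880 i) (xt0_888 i) (Nat.ble (nat_lit 888) i)) (Nat.ble (nat_lit 880) i)) (Nat.ble (nat_lit 864) i))
noncomputable def xt1_112 (i : ℕ) : ℕ := (Bool.rec (Bool.rec (Bool.rec (xt0_896 i) (xt0_904 i) (Nat.ble (nat_lit 904) i)) (Bool.rec (xt0_912 i) (xt0_920 i) (Nat.ble (nat_lit 920) i)) (Nat.ble (nat_lit 912) i)) (Bool.rec (Bool.rec (xt0_928 i) (xt0_936 i) (Nat.ble (nat_lit 936) i)) (Bool.rec (xt0_944 i) (xt0_952 i) (Nat.ble (nat_lit 952) i)) (Nat.ble (nat_lit 944) i)) (Nat.ble (nat_lit 928) i))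
noncomputable def xt1_120 (i : ℕ) : ℕ := (Bool.rec (Bool.rec (Bool.rec (xt0_960 i) (xt0_968 i) (Nat.ble (nat_lit 968) i)) (Bool.rec (xt0_976 i) (xt0_984 i) (Nat.ble (nat_lit 984) i)) (Nat.ble (nat_lit 976) i)) (Bool.rec (Bool.rec (xt0_992 i) (xt0_1000 i) (Nat.ble (nat_lit 1000) i)) (Bool.rec (xt0_1008 i) (xt0_1016 i) (Nat.ble (nat_lit 1016) i)) (Nat.ble (nat_lit 1008) i)) (Nat.ble (nat_lit 992) i))
noncomputable def xt1_128 (i : ℕ) : ℕ := (Bool.rec (Bool.rec (Bool.rec (xt0_1024 i) (xt0_1032 i) (Nat.ble (nat_lit 1032) i)) (Bool.rec (xt0_1040 i) (xt0_1048 i) (Nat.ble (nat_lit 1048) i)) (Nat.ble (nat_lit 1040) i)) (Bool.rec (Bool.rec (xt0_1056 i) (xt0_1064 i) (Nat.ble (nat_lit 1064) i)) (Bool.rec (xt0_1072 i) (xt0_1080 i) (Nat.ble (nat_lit 1080) i)) (Nat.ble (nat_lit 1072) i)) (Nat.ble (nat_lit 1056) i))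
noncomputable def xt1_136 (i : ℕ) : ℕ := (Bool.rec (Bool.rec (Bool.rec (xt0_1088 i) (xt0_1096 i) (Nat.ble (nat_lit 1096) i)) (Bool.rec (xt0_1104 i) (xt0_1112 i) (Nat.ble (nat_lit 1112) i)) (Nat.ble (nat_lit 1104) i)) (Bool.rec (Bool.rec (xt0_1120 i) (xt0_1128 i) (Nat.ble (nat_lit 1128) i)) (Bool.rec (xt0_1136 i) (xt0_1144 i) (Nat.ble (nat_lit 1144) i)) (Nat.ble (nat_lit 1136) i)) (Nat.ble (nat_lit 1120) i))
noncomputable def xt1_144 (i : ℕ) : ℕ := (Bool.rec (Bool.rec (Bool.rec (xt0_1152 i) (xt0_1160 i) (Nat.ble (nat_lit 1160) i)) (Bool.rec (xt0_1168 i) (xt0_1176 i) (Nat.ble (nat_lit 1176) i)) (Nat.ble (nat_lit 1168) i)) (Bool.rec (Bool.rec (xt0_1184 i) (xt0_1192 i) (Nat.ble (nat_lit 1192) i)) (Bool.rec (xt0_1200 i) (xt0_1208 i) (Nat.ble (nat_lit 1208) i)) (Nat.ble (nat_lit 1200) i)) (Nat.ble (nat_lit 1184) i))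
noncomputable def xt1_152 (i : ℕ) : ℕ := (Bool.rec (Bool.rec (Bool.rec (xt0_1216 i) (xt0_1224 i) (Nat.ble (nat_lit 1224) i)) (Bool.rec (xt0_1232 i) (xt0_1240 i) (Nat.ble (nat_lit 1240) i)) (Nat.ble (nat_lit 1232) i)) (Bool.rec (Bool.rec (xt0_1248 i) (xt0_1256 i) (Nat.ble (nat_lit 1256) i)) (Bool.rec (xt0_1264 i) (xt0_1272 i) (Nat.ble (nat_lit 1272) i)) (Nat.ble (nat_lit 1264) i)) (Nat.ble (nat_lit 1248) i))
noncomputable def xt1_160 (i : ℕ) : ℕ := (Bool.rec (Bool.rec (Bool.rec (xt0_1280 i) (xt0_1288 i) (Nat.ble (nat_lit 1288) i)) (Bool.rec (xt0_1296 i) (xt0_1304 i) (Nat.ble (nat_lit 1304) i)) (Nat.ble (nat_lit 1296) i)) (Bool.rec (Bool.rec (xt0_1312 i) (xt0_1320 i) (Nat.ble (nat_lit 1320) i)) (Bool.rec (xt0_1328 i) (xt0_1336 i) (Nat.ble (nat_lit 1336) i)) (Nat.ble (nat_lit 1328) i)) (Nat.ble (nat_lit 1312) i))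
noncomputable def xt1_168 (i : ℕ) : ℕ := (Bool.rec (Bool.rec (Bool.rec (xt0_1344 i) (xt0_1352 i) (Nat.ble (nat_lit 1352) i)) (Bool.rec (xt0_1360 i) (xt0_1368 i) (Nat.ble (nat_lit 1368) i)) (Nat.ble (nat_lit 1360) i)) (Bool.rec (Bool.rec (xt0_1376 i) (xt0_1384 i) (Nat.ble (nat_lit 1384) i)) (Bool.rec (xt0_1392 i) (xt0_1400 i) (Nat.ble (nat_lit 1400) i)) (Nat.ble (nat_lit 1392) i)) (Nat.ble (nat_lit 1376) i))
noncomputable def xt1_176 (i : ℕ) : ℕ := (Bool.rec (Bool.rec (Bool.rec (xt0_1408 i) (xt0_1416 i) (Nat.ble (nat_lit 1416) i)) (Bool.rec (xt0_1424 i) (xt0_1432 i) (Nat.ble (nat_lit 1432) i)) (Nat.ble (nat_lit 1424) i)) (Bool.rec (Bool.rec (xt0_1440 i) (xt0_1448 i) (Nat.ble (nat_lit 1448) i)) (Bool.rec (xt0_1456 i) (xt0_1464 i) (Nat.ble (nat_lit 1464) i)) (Nat.ble (nat_lit 1456) i)) (Nat.ble (nat_lit 1440) i))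
noncomputable def xt1_184 (i : ℕ) : ℕ := (Bool.rec (Bool.rec (Bool.rec (xt0_1472 i) (xt0_1480 i) (Nat.ble (nat_lit 1480) i)) (Bool.rec (xt0_1488 i) (xt0_1496 i) (Nat.ble (nat_lit 1496) i)) (Nat.ble (nat_lit 1488) i)) (Bool.rec (Bool.rec (xt0_1504 i) (xt0_1512 i) (Nat.ble (nat_lit 1512) i)) (Bool.rec (xt0_1520 i) (xt0_1528 i) (Nat.ble (nat_lit 1528) i)) (Nat.ble (nat_lit 1520) i)) (Nat.ble (nat_lit 1504) i))
noncomputable def xt1_192 (i : ℕ) : ℕ := (Bool.rec (Bool.rec (Bool.rec (xt0_1536 i) (xt0_1544 i) (Nat.ble (nat_lit 1544) i)) (Bool.rec (xt0_1552 i) (xt0_1560 i) (Nat.ble (nat_lit 1560) i)) (Nat.ble (nat_lit 1552) i)) (Bool.rec (Bool.rec (xt0_1568 i) (xt0_1576 i) (Nat.ble (nat_lit 1576) i)) (Bool.rec (xt0_1584 i) (xt0_1592 i) (Nat.ble (nat_lit 1592) i)) (Nat.ble (nat_lit 1584) i)) (Nat.ble (nat_lit 1568) i))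
noncomputable def xt1_200 (i : ℕ) : ℕ := (Bool.rec (Bool.rec (Bool.rec (xt0_1600 i) (xt0_1608 i) (Nat.ble (nat_lit 1608) i)) (Bool.rec (xt0_1616 i) (xt0_1624 i) (Nat.ble (nat_lit 1624) i)) (Nat.ble (nat_lit 1616) i)) (Bool.rec (Bool.rec (xt0_1632 i) (xt0_1640 i) (Nat.ble (nat_lit 1640) i)) (Bool.rec (xt0_1648 i) (xt0_1656 i) (Nat.ble (nat_lit 1656) i)) (Nat.ble (nat_lit 1648) i)) (Nat.ble (nat_lit 1632) i))
noncomputable def xt1_208 (i : ℕ) : ℕ := (Bool.rec (Bool.rec (Bool.rec (xt0_1664 i) (xt0_1672 i) (Nat.ble (nat_lit 1672) i)) (Bool.rec (xt0_1680 i) (xt0_1688 i) (Nat.ble (nat_lit 1688) i)) (Nat.ble (nat_lit 1680) i)) (Bool.rec (Bool.rec (xt0_1696 i) (xt0_1704 i) (Nat.ble (nat_lit 1704) i)) (Bool.rec (xt0_1712 i) (xt0_1720 i) (Nat.ble (nat_lit 1720) i)) (Nat.ble (nat_lit 1712) i)) (Nat.ble (nat_lit 1696) i))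
noncomputable def xt1_216 (i : ℕ) : ℕ := (Bool.rec (Bool.rec (Bool.rec (xt0_1728 i) (xt0_1736 i) (Nat.ble (nat_lit 1736) i)) (Bool.rec (xt0_1744 i) (xt0_1752 i) (Nat.ble (nat_lit 1752) i)) (Nat.ble (nat_lit 1744) i)) (Bool.rec (Bool.rec (xt0_1760 i) (xt0_1768 i) (Nat.ble (nat_lit 1768) i)) (Bool.rec (xt0_1776 i) (xt0_1784 i) (Nat.ble (nat_lit 1784) i)) (Nat.ble (nat_lit 1776) i)) (Nat.ble (nat_lit 1760) i))
noncomputable def xt1_224 (i : ℕ) : ℕ := (Bool.rec (Bool.rec (Bool.rec (xt0_1792 i) (xt0_1800 i) (Nat.ble (nat_lit 1800) i)) (Bool.rec (xt0_1808 i) (xt0_1816 i) (Nat.ble (nat_lit 1816) i)) (Nat.ble (nat_lit 1808) i)) (Bool.rec (Bool.rec (xt0_1824 i) (xt0_1832 i) (Nat.ble (nat_lit 1832) i)) (Bool.rec (xt0_1840 i) (xt0_1848 i) (Nat.ble (nat_lit 1848) i)) (Nat.ble (nat_lit 1840) i)) (Nat.ble (nat_lit 1824) i))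
noncomputable def xt1_232 (i : ℕ) : ℕ := (Bool.rec (Bool.rec (Bool.rec (xt0_1856 i) (xt0_1864 i) (Nat.ble (nat_lit 1864) i)) (Bool.rec (xt0_1872 i) (xt0_1880 i) (Nat.ble (nat_lit 1880) i)) (Nat.ble (nat_lit 1872) i)) (Bool.rec (Bool.rec (xt0_1888 i) (xt0_1896 i) (Nat.ble (nat_lit 1896) i)) (Bool.rec (xt0_1904 i) (xt0_1912 i) (Nat.ble (nat_lit 1912) i)) (Nat.ble (nat_lit 1904) i)) (Nat.ble (nat_lit 1888) i))
noncomputable def xt1_240 (i : ℕ) : ℕ := (Bool.rec (Bool.rec (Bool.rec (xt0_1920 i) (xt0_1928 i) (Nat.ble (nat_lit 1928) i)) (Bool.rec (xt0_1936 i) (xt0_1944 i) (Nat.ble (nat_lit 1944) i)) (Nat.ble (nat_lit 1936) i)) (Bool.rec (Bool.rec (xt0_1952 i) (xt0_1960 i) (Nat.ble (nat_lit 1960) i)) (Bool.rec (xt0_1968 i) (xt0_1976 i) (Nat.ble (nat_lit 1976) i)) (Nat.ble (nat_lit 1968) i)) (Nat.ble (nat_lit 1952) i))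
noncomputable def xt1_248 (i : ℕ) : ℕ := (Bool.rec (Bool.rec (Bool.rec (xt0_1984 i) (xt0_1992 i) (Nat.ble (nat_lit 1992) i)) (Bool.rec (xt0_2000 i) (xt0_2008 i) (Nat.ble (nat_lit 2008) i)) (Nat.ble (nat_lit 2000) i)) (Bool.rec (Bool.rec (xt0_2016 i) (xt0_2024 i) (Nat.ble (nat_lit 2024) i)) (Bool.rec (xt0_2032 i) (xt0_2040 i) (Nat.ble (nat_lit 2040) i)) (Nat.ble (nat_lit 2032) i)) (Nat.ble (nat_lit 2016) i))
noncomputable def xt1_256 (i : ℕ) : ℕ := (Bool.rec (Bool.rec (Bool.rec (xt0_2048 i) (xt0_2056 i) (Nat.ble (nat_lit 2056) i)) (Bool.rec (xt0_2064 i) (xt0_2072 i) (Nat.ble (nat_lit 2072) i)) (Nat.ble (nat_lit 2064) i)) (Bool.rec (Bool.rec (xt0_2080 i) (xt0_2088 i) (Nat.ble (nat_lit 2088) i)) (Bool.rec (xt0_2096 i) (xt0_2104 i) (Nat.ble (nat_lit 2104) i)) (Nat.ble (nat_lit 2096) i)) (Nat.ble (nat_lit 2080) i))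
noncomputable def xt1_264 (i : ℕ) : ℕ := (Bool.rec (Bool.rec (Bool.rec (xt0_2112 i) (xt0_2120 i) (Nat.ble (nat_lit 2120) i)) (Bool.rec (xt0_2128 i) (xt0_2136 i) (Nat.ble (nat_lit 2136) i)) (Nat.ble (nat_lit 2128) i)) (Bool.rec (Bool.rec (xt0_2144 i) (xt0_2152 i) (Nat.ble (nat_lit 2152) i)) (Bool.rec (xt0_2160 i) (xt0_2168 i) (Nat.ble (nat_lit 2168) i)) (Nat.ble (nat_lit 2160) i)) (Nat.ble (nat_lit 2144) i))
noncomputable def xt1_272 (i : ℕ) : ℕ := (Bool.rec (Bool.rec (Bool.rec (xt0_2176 i) (xt0_2184 i) (Nat.ble (nat_lit 2184) i)) (Bool.rec (xt0_2192 i) (xt0_2200 i) (Nat.ble (nat_lit 2200) i)) (Nat.ble (nat_lit 2192) i)) (Bool.rec (Bool.rec (xt0_2208 i) (xt0_2216 i) (Nat.ble (nat_lit 2216) i)) (Bool.rec (xt0_2224 i) (xt0_2232 i) (Nat.ble (nat_lit 2232) i)) (Nat.ble (nat_lit 2224) i)) (Nat.ble (nat_lit 2208) i))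
noncomputable def xt1_280 (i : ℕ) : ℕ := (Bool.rec (Bool.rec (Bool.rec (xt0_2240 i) (xt0_2248 i) (Nat.ble (nat_lit 2248) i)) (Bool.rec (xt0_2256 i) (xt0_2264 i) (Nat.ble (nat_lit 2264) i)) (Nat.ble (nat_lit 2256) i)) (Bool.rec (Bool.rec (xt0_2272 i) (xt0_2280 i) (Nat.ble (nat_lit 2280) i)) (Bool.rec (xt0_2288 i) (xt0_2296 i) (Nat.ble (nat_lit 2296) i)) (Nat.ble (nat_lit 2288) i)) (Nat.ble (nat_lit 2272) i))
noncomputable def xt1_288 (i : ℕ) : ℕ := (Bool.rec (Bool.rec (Bool.rec (xt0_2304 i) (xt0_2312 i) (Nat.ble (nat_lit 2312) i)) (Bool.rec (xt0_2320 i) (xt0_2328 i) (Nat.ble (nat_lit 2328) i)) (Nat.ble (nat_lit 2320) i)) (Bool.rec (Bool.rec (xt0_2336 i) (xt0_2344 i) (Nat.ble (nat_lit 2344) i)) (Bool.rec (xt0_2352 i) (xt0_2360 i) (Nat.ble (nat_lit 2360) i)) (Nat.ble (nat_lit 2352) i)) (Nat.ble (nat_lit 2336) i))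
noncomputable def xt1_296 (i : ℕ) : ℕ := (Bool.rec (Bool.rec (xt0_2368 i) (xt0_2376 i) (Nat.ble (nat_lit 2376) i)) (Bool.rec (xt0_2384 i) (xt0_2392 i) (Nat.ble (nat_lit 2392) i)) (Nat.ble (nat_lit 2384) i))
noncomputable def xt2_0 (i : ℕ) : ℕ := (Bool.rec (Bool.rec (Bool.rec (xt1_0 i) (xt1_8 i) (Nat.ble (nat_lit 64) i)) (Bool.rec (xt1_16 i) (xt1_24 i) (Nat.ble (nat_lit 192) i)) (Nat.ble (nat_lit 128) i)) (Bool.rec (Bool.rec (xt1_32 i) (xt1_40 i) (Nat.ble (nat_lit 320) i)) (Bool.rec (xt1_48 i) (xt1_56 i) (Nat.ble (nat_lit 448) i)) (Nat.ble (nat_lit 384) i)) (Nat.ble (nat_lit 256) i))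
noncomputable def xt2_8 (i : ℕ) : ℕ := (Bool.rec (Bool.rec (Bool.rec (xt1_64 i) (xt1_72 i) (Nat.ble (nat_lit 576) i)) (Bool.rec (xt1_80 i) (xt1_88 i) (Nat.ble (nat_lit 704) i)) (Nat.ble (nat_lit 640) i)) (Bool.rec (Bool.rec (xt1_96 i) (xt1_104 i) (Nat.ble (nat_lit 832) i)) (Bool.rec (xt1_112 i) (xt1_120 i) (Nat.ble (nat_lit 960) i)) (Nat.ble (nat_lit 896) i)) (Nat.ble (nat_lit 768) i))
noncomputable def xt2_16 (i : ℕ) : ℕ := (Bool.rec (Bool.rec (Bool.rec (xt1_128 i) (xt1_136 i) (Nat.ble (nat_lit 1088) i)) (Bool.rec (xt1_144 i) (xt1_152 i) (Nat.ble (nat_lit 1216) i)) (Nat.ble (nat_lit 1152) i)) (Bool.rec (Bool.rec (xt1_160 i) (xt1_168 i) (Nat.ble (nat_lit 1344) i)) (Bool.rec (xt1_176 i) (xt1_184 i) (Nat.ble (nat_lit 1472) i)) (Nat.ble (nat_lit 1408) i)) (Nat.ble (nat_lit 1280) i))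
noncomputable def xt2_24 (i : ℕ) : ℕ := (Bool.rec (Bool.rec (Bool.rec (xt1_192 i) (xt1_200 i) (Nat.ble (nat_lit 1600) i)) (Bool.rec (xt1_208 i) (xt1_216 i) (Nat.ble (nat_lit 1728) i)) (Nat.ble (nat_lit 1664) i)) (Bool.rec (Bool.rec (xt1_224 i) (xt1_232 i) (Nat.ble (nat_lit 1856) i)) (Bool.rec (xt1_240 i) (xt1_248 i) (Nat.ble (nat_lit 1984) i)) (Nat.ble (nat_lit 1920) i)) (Nat.ble (nat_lit 1792) i))
noncomputable def xt2_32 (i : ℕ) : ℕ := (Bool.rec (Bool.rec (xt1_256 i) (Bool.rec (xt1_264 i) (xt1_272 i) (Nat.ble (nat_lit 2176) i)) (Nat.ble (nat_lit 2112) i)) (Bool.rec (xt1_280 i) (Bool.rec (xt1_288 i) (xt1_296 i) (Nat.ble (nat_lit 2368) i)) (Nat.ble (nat_lit 2304) i)) (Nat.ble (nat_lit 2240) i))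
noncomputable def xt3_0 (i : ℕ) : ℕ := (Bool.rec (Bool.rec (xt2_0 i) (xt2_8 i) (Nat.ble (nat_lit 512) i)) (Bool.rec (xt2_16 i) (Bool.rec (xt2_24 i) (xt2_32 i) (Nat.ble (nat_lit 2048) i)) (Nat.ble (nat_lit 1536) i)) (Nat.ble (nat_lit 1024) i))
noncomputable def xblk (i : ℕ) : ℕ := (xt3_0 i)
noncomputable def xrow (x : ℕ) : ℕ := frcN (Nat.shiftRight x (nat_lit 7)) fun b =>
  Nat.land (Nat.shiftRight (xblk b) (Nat.mul (Nat.land x (nat_lit 127)) (nat_lit 120))) (nat_lit 0xffffffffffffffffffffffffffffff)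
noncomputable def ap (x l : ℕ) : ℕ :=
  Bool.rec (F24a.ap x l) (Nat.land (Nat.shiftRight (xrow x) (Nat.mul (Nat.sub l (nat_lit 12)) (nat_lit 19))) (nat_lit 524287)) (Nat.ble (nat_lit 12) l)
noncomputable def par (x : ℕ) : ℕ := Nat.shiftRight (xrow x) (nat_lit 114)
noncomputable def pt (l : ℕ) : ℕ := Nat.land (Nat.shiftRight (nat_lit 0x1f7b90639701479003090023c001000000007bba022c0007250071e0072400721007200071f007220072300961) (Nat.mul l (nat_lit 20))) (nat_lit 1048575)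
noncomputable def τ : FT := ⟨nat_lit 18, nat_lit 306936, ap, pt, par, nat_lit 7, [0, 1, 2, 3, 4, 5, 6, 11, 19, 3512, 31672]⟩
def ex : List (ℕ × List ℕ × ℕ) := [(nat_lit 12, [nat_lit 2, nat_lit 3, nat_lit 4, nat_lit 5, nat_lit 6, nat_lit 7, nat_lit 3], nat_lit 1), (nat_lit 13, [nat_lit 12, nat_lit 4, nat_lit 6, nat_lit 8, nat_lit 7, nat_lit 12, nat_lit 4], nat_lit 2), (nat_lit 14, [nat_lit 13, nat_lit 3, nat_lit 6], nat_lit 2), (nat_lit 15, [nat_lit 13, nat_lit 9, nat_lit 6, nat_lit 5], nat_lit 1), (nat_lit 16, [nat_lit 15, nat_lit 8, nat_lit 14, nat_lit 15, nat_lit 3], nat_lit 0), (nat_lit 17, [nat_lit 16, nat_lit 13, nat_lit 0, nat_lit 14, nat_lit 6], nat_lit 10)]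

end Cfsg.Agent.H15.X24
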